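import Mathlib
import Groth.Agent.Lib.Helper84.Weitz.Corep
import Groth.Agent.Lib.Helper84.MatCoeff
import Groth.Agent.Lib.Helper84.SmallestSubcomod
import Groth.Agent.Lib.Helper84.Obs.HopfObs

/-!
# Epimorphic subgroups on the Hopf side (helper84)

`π : A → C` a bialgebra map ("subgroup").  If corepresentations of `A` are determined by their
restriction along `π`, then every vector of an `A`-comodule fixed by `π` is fixed by `A`
(the `1 ⊕ ρ` conjugation trick).
-/

set_option autoImplicit false
set_option linter.unusedSectionVars false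
universe u v w w'
open TensorProduct

namespace Groth.Agent.Lib.Helper84.Epi

open Groth.Agent.Lib.Helper84.Weitz Groth.Agent.Lib.Helper84.Obs

section Blocks

variable {k : Type u} [CommRing k] {O : Type v} [CommRing O] [Bialgebra k O]
  {ι : Type w} [Fintype ι] [DecidableEq ι]

theorem IsCorep.reindex {ι' : Type w'} [Fintype ι'] [DecidableEq ι'] {m : Matrix ι ι O}
    (hm : IsCorep k m) (e : ι ≃ ι') : IsCorep k (Matrix.reindex e e m) := by
  refine ⟨fun i j => ?_, fun i j => ?_⟩
  · simp only [Matrix.reindex_apply, Matrix.submatrix_apply]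
    rw [hm.comul]
    exact (Equiv.sum_comp e.symm (fun l => m (e.symm i) l ⊗ₜ[k] m l (e.symm j))).symm
  · simp only [Matrix.reindex_apply, Matrix.submatrix_apply]
    rw [hm.counit]
    simp only [EmbeddingLike.apply_eq_iff_eq]

theorem isCorep_one : IsCorep k (1 : Matrix ι ι O) := by
  rw [isCorep_iff]
  refine ⟨?_, ?_⟩
  · rw [Matrix.map_one _ (map_zero _) (map_one _), Matrix.map_one _ (map_zero _) (map_one _),
      Matrix.map_one _ (map_zero _) (map_one _), Matrix.one_mul]
  · rw [Matrix.map_one _ (map_zero _) (map_one _)]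

theorem IsCorep.fromBlocks {ι₂ : Type w'} [Fintype ι₂] [DecidableEq ι₂] {m₁ : Matrix ι ι O}
    {m₂ : Matrix ι₂ ι₂ O} (h₁ : IsCorep k m₁) (h₂ : IsCorep k m₂) :
    IsCorep k (Matrix.fromBlocks m₁ 0 0 m₂) := by
  rw [isCorep_iff] at h₁ h₂ ⊢
  refine ⟨?_, ?_⟩
  · simp only [Matrix.fromBlocks_map, Matrix.map_zero _ (map_zero _), Matrix.fromBlocks_multiply,
      Matrix.mul_zero, Matrix.zero_mul, add_zero, zero_add, h₁.1, h₂.1]
  · simp only [Matrix.fromBlocks_map, Matrix.map_zero _ (map_zero _), h₁.2, h₂.2,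
      Matrix.fromBlocks_one]

end Blocks

section Shear

variable {R : Type*} [CommRing R] {n : ℕ}

/-- the unipotent shear by a column. -/
def shear (w : Matrix (Fin n) (Fin 1) R) : Matrix (Fin n ⊕ Fin 1) (Fin n ⊕ Fin 1) R :=
  Matrix.fromBlocks 1 w 0 1

theorem shear_mul_shear_neg (w : Matrix (Fin n) (Fin 1) R) : shear w * shear (-w) = 1 := by
  unfold shear
  rw [Matrix.fromBlocks_multiply]
  simp [Matrix.fromBlocks_one]

theorem shear_neg_mul_shear (w : Matrix (Fin n) (Fin 1) R) : shear (-w) * shear w = 1 := by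
  have := shear_mul_shear_neg (-w)
  rwa [neg_neg] at this

theorem shear_conj_eq_iff (a : Matrix (Fin n) (Fin n) R) (w : Matrix (Fin n) (Fin 1) R) :
    shear w * Matrix.fromBlocks a 0 0 1 * shear (-w) = Matrix.fromBlocks a 0 0 1 ↔ a * w = w := by
  have h1 : shear w * Matrix.fromBlocks a 0 0 (1 : Matrix (Fin 1) (Fin 1) R)
      = Matrix.fromBlocks a w 0 1 := by
    unfold shear
    rw [Matrix.fromBlocks_multiply]
    simp
  have h2 : Matrix.fromBlocks a 0 0 (1 : Matrix (Fin 1) (Fin 1) R) * shear w
      = Matrix.fromBlocks a (a * w) 0 1 := by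
    unfold shear
    rw [Matrix.fromBlocks_multiply]
    simp
  constructor
  · intro h
    have h3 : shear w * Matrix.fromBlocks a 0 0 (1 : Matrix (Fin 1) (Fin 1) R)
        = Matrix.fromBlocks a 0 0 1 * shear w := by
      calc shear w * Matrix.fromBlocks a 0 0 (1 : Matrix (Fin 1) (Fin 1) R)
          = shear w * Matrix.fromBlocks a 0 0 1 * (shear (-w) * shear w) := by
            rw [shear_neg_mul_shear, Matrix.mul_one]
        _ = (shear w * Matrix.fromBlocks a 0 0 1 * shear (-w)) * shear w := by
            simp only [Matrix.mul_assoc]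
        _ = _ := by rw [h]
    rw [h1, h2] at h3
    exact ((Matrix.fromBlocks_inj.1 h3).2.1).symm
  · intro h
    calc shear w * Matrix.fromBlocks a 0 0 (1 : Matrix (Fin 1) (Fin 1) R) * shear (-w)
        = Matrix.fromBlocks a (a * w) 0 1 * shear (-w) := by rw [h1, h]
      _ = Matrix.fromBlocks a 0 0 1 * (shear w * shear (-w)) := by rw [← h2, Matrix.mul_assoc]
      _ = _ := by rw [shear_mul_shear_neg, Matrix.mul_one]

theorem shear_map {S : Type*} [CommRing S] (f : R →+* S) (w : Matrix (Fin n) (Fin 1) R) :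
    (shear w).map f = shear (w.map f) := by
  unfold shear
  rw [Matrix.fromBlocks_map, Matrix.map_one _ (map_zero _) (map_one _),
    Matrix.map_one _ (map_zero _) (map_one _), Matrix.map_zero _ (map_zero _)]

end Shear

section Key

variable {k : Type u} [CommRing k] {O : Type v} [CommRing O] [Bialgebra k O]
  {O' : Type w} [CommRing O'] [Bialgebra k O']

/-- **the conjugation trick.** -/
theorem mul_col_eq_of_epi {n : ℕ} (π : O →ₐc[k] O') (a : Matrix (Fin n) (Fin n) O)
    (ha : IsCorep k a) (v : Matrix (Fin n) (Fin 1) k)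
    (hv : a.map π * v.map (algebraMap k O') = v.map (algebraMap k O'))
    (hepi : ∀ N N' : Matrix (Fin (n + 1)) (Fin (n + 1)) O, IsCorep k N → IsCorep k N' →
      N.map π = N'.map π → N = N') :
    a * v.map (algebraMap k O) = v.map (algebraMap k O) := by
  classical
  set N₀ : Matrix (Fin n ⊕ Fin 1) (Fin n ⊕ Fin 1) O := Matrix.fromBlocks a 0 0 1 with hN₀
  have hN₀c : IsCorep k N₀ := IsCorep.fromBlocks ha isCorep_one
  set N₁ : Matrix (Fin n ⊕ Fin 1) (Fin n ⊕ Fin 1) O :=
    (shear v).map (algebraMap k O) * N₀ * (shear (-v)).map (algebraMap k O) with hN₁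
  have hN₁c : IsCorep k N₁ :=
    IsCorep.conj hN₀c (shear v) (shear (-v)) (shear_mul_shear_neg v) (shear_neg_mul_shear v)
  have hN₁' : N₁ = shear (v.map (algebraMap k O)) * N₀ * shear (-(v.map (algebraMap k O))) := by
    rw [hN₁, shear_map, shear_map]
    congr 2
    ext i j
    simp
  have h0 : N₀.map π = Matrix.fromBlocks (a.map π) 0 0 1 := by
    rw [hN₀, Matrix.fromBlocks_map, Matrix.map_one _ (map_zero _) (map_one _)]
    congr 1
    · ext i j
      simp
    · ext i j
      simp
  have hmap : ∀ w : Matrix (Fin n) (Fin 1) O,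
      (shear w * N₀ * shear (-w)).map π = shear (w.map π) * Matrix.fromBlocks (a.map π) 0 0 1 *
        shear (-(w.map π)) := by
    intro w
    have e1 := Matrix.map_mul (L := shear w * N₀) (M := shear (-w)) (f := (π : O →+* O'))
    have e2 := Matrix.map_mul (L := shear w) (M := N₀) (f := (π : O →+* O'))
    have e3 := shear_map (π : O →+* O') w
    have e4 := shear_map (π : O →+* O') (-w)
    have e5 : (-w).map (π : O →+* O') = -(w.map (π : O →+* O')) := by
      ext i j
      simp
    rw [e5] at e4
    simp only [RingHom.coe_coe] at e1 e2 e3 e4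
    rw [e1, e2, e3, e4, h0]
  have hvv : (v.map (algebraMap k O)).map π = v.map (algebraMap k O') := by
    ext i j
    exact (π : O →ₐ[k] O').commutes _
  have hπeq : N₀.map π = N₁.map π := by
    rw [hN₁', hmap, hvv, h0]
    exact ((shear_conj_eq_iff _ _).2 hv).symm
  let σ : Fin n ⊕ Fin 1 ≃ Fin (n + 1) := finSumFinEquiv
  have h1 := hepi (Matrix.reindex σ σ N₀) (Matrix.reindex σ σ N₁) (IsCorep.reindex hN₀c σ)
    (IsCorep.reindex hN₁c σ) (by
      ext i j
      simp only [Matrix.map_apply, Matrix.reindex_apply, Matrix.submatrix_apply]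
      exact congrFun (congrFun hπeq _) _)
  have h2 : N₀ = N₁ := (Matrix.reindex σ σ).injective h1
  rw [hN₁'] at h2
  exact (shear_conj_eq_iff _ _).1 h2.symm

end Key

section Comod

variable {k : Type u} [Field k] {A : Type v} [CommRing A] [HopfAlgebra k A]
  {C : Type w} [CommRing C] [Bialgebra k C]
  {M : Type w'} [AddCommGroup M] [Module k M] [HopfRep.Comod k A M]

/-- **if corepresentations are determined by their restriction to the subgroup, invariants of the
subgroup are invariants of the group.** -/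
theorem coact_eq_of_epi (π : A →ₐc[k] C)
    (hepi : ∀ (n : ℕ) (N N' : Matrix (Fin n) (Fin n) A), IsCorep k N → IsCorep k N' →
      N.map π = N'.map π → N = N')
    (m : M) (hm : IsFix (π : A →ₐ[k] C) m) :
    HopfRep.Comod.coact (k := k) (A := A) m = m ⊗ₜ[k] (1 : A) := by
  classical
  obtain ⟨W, hW, hmW, hfg⟩ := Groth.Agent.Lib.Helper84.SmallestSubcomod.exists_fg_subcomod_of_flat
    (k := k) (C := A) (V := M) (Submodule.span k {m}) (Submodule.fg_span_singleton m)
  have : Module.Finite k W := Module.Finite.iff_fg.2 hfg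
  let b := Module.finBasis k W
  set n := Module.finrank k W with hn
  obtain ⟨a, ha1, ha2, ha3⟩ := Groth.Agent.Lib.Helper84.MatCoeff.exists_matCoeff W hW b
  have hmW' : m ∈ W := hmW (Submodule.mem_span_singleton_self m)
  let v : Fin n → k := fun j => b.repr ⟨m, hmW'⟩ j
  have hmv : m = ∑ j, v j • ((b j : W) : M) := by
    have := b.sum_repr ⟨m, hmW'⟩
    have h2 := congrArg (W.subtype) this
    simp only [map_sum, map_smul, Submodule.subtype_apply] at h2
    exact h2.symm
  have hco : HopfRep.Comod.coact (k := k) (A := A) m =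
      ∑ i, ((b i : W) : M) ⊗ₜ[k] (∑ j, v j • a i j) := by
    conv_lhs => rw [hmv]
    simp only [map_sum, map_smul, ha1, Finset.smul_sum, TensorProduct.tmul_sum,
      TensorProduct.tmul_smul]
    rw [Finset.sum_comm]
  have hm1 : m ⊗ₜ[k] (1 : C) = ∑ i, ((b i : W) : M) ⊗ₜ[k] (v i • (1 : C)) := by
    conv_lhs => rw [hmv]
    rw [TensorProduct.sum_tmul]
    refine Finset.sum_congr rfl fun i _ => ?_
    rw [TensorProduct.smul_tmul]
  have hm2 : m ⊗ₜ[k] (1 : A) = ∑ i, ((b i : W) : M) ⊗ₜ[k] (v i • (1 : A)) := by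
    conv_lhs => rw [hmv]
    rw [TensorProduct.sum_tmul]
    refine Finset.sum_congr rfl fun i _ => ?_
    rw [TensorProduct.smul_tmul]
  -- the fixedness hypothesis in coordinates
  have hfix : ∀ i, ∑ j, v j • (π (a i j) : C) = v i • (1 : C) := by
    unfold IsFix at hm
    rw [hco, hm1, map_sum] at hm
    simp only [LinearMap.lTensor_tmul, map_sum, map_smul] at hm
    have := Groth.Agent.Lib.Helper84.MatCoeff.eq_of_sum_basis_tmul_eq W b
      (fun i => ∑ j, v j • ((π : A →ₐ[k] C).toLinearMap (a i j))) (fun i => v i • (1 : C)) hm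
    intro i
    exact congrFun this i
  let aM : Matrix (Fin n) (Fin n) A := Matrix.of a
  let vM : Matrix (Fin n) (Fin 1) k := Matrix.of fun i _ => v i
  have haM : IsCorep k aM := ⟨ha2, ha3⟩
  have hv : aM.map π * vM.map (algebraMap k C) = vM.map (algebraMap k C) := by
    ext i j
    rw [Matrix.mul_apply]
    simp only [Matrix.map_apply, aM, vM, Matrix.of_apply]
    rw [Algebra.algebraMap_eq_smul_one, ← hfix i]
    refine Finset.sum_congr rfl fun l _ => ?_
    rw [Algebra.smul_def, mul_comm]
  have hmain := mul_col_eq_of_epi π aM haM vM hv (hepi (n + 1))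
  have hfixA : ∀ i, ∑ j, v j • a i j = v i • (1 : A) := by
    intro i
    have := congrFun (congrFun hmain i) 0
    rw [Matrix.mul_apply] at this
    simp only [Matrix.map_apply, aM, vM, Matrix.of_apply] at this
    rw [Algebra.algebraMap_eq_smul_one] at this
    rw [← this]
    refine Finset.sum_congr rfl fun l _ => ?_
    rw [Algebra.smul_def, mul_comm]
  rw [hco, hm2]
  refine Finset.sum_congr rfl fun i _ => ?_
  rw [hfixA i]

end Comod

end Groth.Agent.Lib.Helper84.Epi
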