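import Mathlib

/-!
# Subgroups with only constant invariant functions are epimorphic (helper84)

`i : H ⟶ G` group schemes over `Spec k`.  If every global function on `G` invariant under right
translation by `H` is constant, then two homomorphisms `r s : G ⟶ G'` to an affine group which
agree on `H` are equal: the functions `g ↦ f (r g · (s g)⁻¹)` are right `H`-invariant.
-/

set_option autoImplicit false
universe u
open CategoryTheory MonoidalCategory CartesianMonoidalCategory MonObj GrpObj AlgebraicGeometry

namespace Groth.Agent.Lib.Helper84.Epi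

section General

variable {C : Type*} [Category C] [CartesianMonoidalCategory C]
  {G H G' : C} [GrpObj G] [GrpObj H] [GrpObj G']

theorem whisker_mul_comp_div (i : H ⟶ G) (r s : G ⟶ G') [IsMonHom r] [IsMonHom s]
    (h : i ≫ r = i ≫ s) :
    ((G ◁ i) ≫ μ[G]) ≫ (r / s) = fst G H ≫ (r / s) := by
  have hμ : (G ◁ i) ≫ μ[G] = fst G H * (snd G H ≫ i) := by
    rw [Hom.mul_def]
    congr 1
    ext <;> simp
  rw [hμ, GrpObj.comp_div, GrpObj.comp_div, MonObj.mul_comp, MonObj.mul_comp, Category.assoc,
    Category.assoc, h, mul_div_mul_right_eq_div]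

theorem unit_comp_div (r s : G ⟶ G') [IsMonHom r] [IsMonHom s] :
    η[G] ≫ (r / s) = η[G'] := by
  rw [GrpObj.comp_div, IsMonHom.one_hom, IsMonHom.one_hom, div_self']
  exact (MonObj.one_eq_one G').symm

end General

section Scheme

variable {k : Type u} [CommRing k] {G H G' : Over (Spec (CommRingCat.of k))}
  [GrpObj G] [GrpObj H] [GrpObj G'] [IsAffine G'.left]

theorem eq_of_forall_const (i : H ⟶ G)
    (hb : ∀ f : Γ(G.left, ⊤), ((G ◁ i) ≫ μ[G]).left.appTop f = (fst G H).left.appTop f →
      ∃ c : k, f = G.hom.appTop ((Scheme.ΓSpecIso (CommRingCat.of k)).inv c))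
    (r s : G ⟶ G') [IsMonHom r] [IsMonHom s] (h : i ≫ r = i ≫ s) : r = s := by
  have key := whisker_mul_comp_div i r s h
  have hunit := unit_comp_div r s
  have hψ1 : r / s = 1 := by
    rw [Hom.one_def]
    apply Over.OverMorphism.ext
    apply ext_of_isAffine
    ext f'
    obtain ⟨c, hc⟩ := hb ((r / s).left.appTop f') (by
      have := congrArg (fun m => m.left.appTop f') key
      simpa only [Over.comp_left, Scheme.Hom.comp_appTop, CommRingCat.comp_apply] using this)
    have h1 : (η[G]).left.appTop ((r / s).left.appTop f') = (η[G']).left.appTop f' := by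
      have := congrArg (fun m => m.left.appTop f') hunit
      simpa only [Over.comp_left, Scheme.Hom.comp_appTop, CommRingCat.comp_apply] using this
    have h2 : ∀ x, (η[G]).left.appTop (G.hom.appTop x) = x := by
      intro x
      have hw : (η[G]).left ≫ G.hom = 𝟙 _ := Over.w η[G]
      have := congrArg (fun m => m.appTop x) hw
      simp only [Scheme.Hom.comp_appTop, CommRingCat.comp_apply, Scheme.Hom.id_appTop] at this
      exact this
    rw [hc, h2] at h1
    rw [hc, h1]
    show _ = ((toUnit G ≫ η[G']).left.appTop) f'
    rw [Over.comp_left, Scheme.Hom.comp_appTop, CommRingCat.comp_apply]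
    rfl
  exact div_eq_one.1 hψ1

end Scheme

end Groth.Agent.Lib.Helper84.Epi
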