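import Mathlib
import Groth.Prelude.Def_GLin4
import Groth.Prelude.Def_CoactBr

/-!
# `GL_n` is smooth (helper84)

The coordinate ring `GLn n k = k[X i j, D] ⧸ (det · D - 1)` is a smooth `k`-algebra (lifting of
invertible matrices along square-zero extensions + finite presentation), hence
`sp k (GLn n k) → Spec k` is a smooth morphism.
-/

set_option autoImplicit false
universe u
open CategoryTheory AlgebraicGeometry CoactBr CoordGrp

namespace Groth.Agent.Lib.Helper84.Epi

variable (n : ℕ) (k : Type u) [CommRing k]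

theorem formallySmooth_GLn : Algebra.FormallySmooth k (GLn n k) := by
  apply Algebra.FormallySmooth.of_comp_surjective
  intro B _ _ I hI f
  have hex : ∀ i j, ∃ b : B, Ideal.Quotient.mk I b = f (GLn.X i j) := fun i j =>
    Ideal.Quotient.mk_surjective _
  choose M hM using hex
  obtain ⟨d0, hd0⟩ := Ideal.Quotient.mk_surjective (I := I) (f GLn.Dinv)
  have hdet : Ideal.Quotient.mk I (Matrix.det (Matrix.of M)) = f GLn.det := by
    rw [RingHom.map_det, GLn.det_eq, AlgHom.map_det]
    congr 1
    ext i j
    simp [hM, GLn.genMat]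
  set ε : B := Matrix.det (Matrix.of M) * d0 - 1 with hε
  have hεI : ε ∈ I := by
    rw [← Ideal.Quotient.eq_zero_iff_mem, hε, map_sub, map_mul, hdet, hd0, ← map_mul,
      GLn.det_mul_Dinv, map_one, map_one, sub_self]
  have hε2 : ε * ε = 0 := by
    have : ε * ε ∈ I ^ 2 := by
      rw [pow_two]
      exact Ideal.mul_mem_mul hεI hεI
    rw [hI] at this
    exact this
  have hd : Matrix.det (Matrix.of M) * (d0 * (1 - ε)) = 1 := by
    have h1 : Matrix.det (Matrix.of M) * d0 = 1 + ε := by rw [hε]; ring
    rw [← mul_assoc, h1]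
    linear_combination (-1 : B) * hε2
  refine ⟨GLn.pt n k (Matrix.of M) (d0 * (1 - ε)) hd, ?_⟩
  apply GLn.algHom_ext
  · intro i j
    rw [AlgHom.comp_apply, GLn.pt_X, Matrix.of_apply]
    exact hM i j
  · rw [AlgHom.comp_apply, GLn.pt_Dinv]
    show Ideal.Quotient.mk I (d0 * (1 - ε)) = _
    rw [map_mul, map_sub, map_one, Ideal.Quotient.eq_zero_iff_mem.2 hεI, sub_zero, mul_one, hd0]

theorem finitePresentation_GLn : Algebra.FinitePresentation k (GLn n k) := by
  haveI : Algebra.FinitePresentation k (GLb n k) :=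
    inferInstanceAs (Algebra.FinitePresentation k (MvPolynomial (GLPoly.Idx n) k))
  exact Algebra.FinitePresentation.quotient (I := GLb.relIdeal n k)
    ⟨{GLb.rel n k}, by simp [GLb.relIdeal]⟩

instance smooth_GLn : Algebra.Smooth k (GLn n k) :=
  ⟨formallySmooth_GLn n k, finitePresentation_GLn n k⟩

theorem smooth_sp_GLn : Smooth (sp k (GLn n k)).hom := by
  show Smooth (Spec.map (CommRingCat.ofHom (algebraMap k (GLn n k))))
  rw [HasRingHomProperty.Spec_iff (P := @Smooth)]
  exact RingHom.smooth_algebraMap.mpr inferInstance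

end Groth.Agent.Lib.Helper84.Epi
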